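import Cfsg.Agent.Lib.Helper30.L34.Defs

/-! # S2088: the action of `SL₃(4)` on the 64 vectors (leaf BASE) -/

set_option autoImplicit false
set_option linter.unusedSimpArgs false

namespace Cfsg.Agent.Lib.Helper30.L34
open Cfsg.Agent.Lib.Helper28.Sp44F4

theorem smul_pt (A : S3) (x : ℕ) (r : Fin 3) :
    (A • pt x) r = A.1 r 0 * code (x / 16) + A.1 r 1 * code (x / 4) + A.1 r 2 * code x := by
  rw [Matrix.SpecialLinearGroup.smul_def]
  simp [Matrix.mulVec, dotProduct, Fin.sum_univ_three, pt]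

theorem pt_inj : ∀ x < 64, ∀ y < 64, pt x = pt y → x = y := by
  have h : ∀ x < 64, ∀ y < 64, (code (x / 16) = code (y / 16) ∧ code (x / 4) = code (y / 4) ∧ code x = code y) → x = y := by
    decide
  intro x hx y hy hxy
  apply h x hx y hy
  refine ⟨?_, ?_, ?_⟩
  · exact congrFun hxy 0
  · exact congrFun hxy 1
  · exact congrFun hxy 2

theorem faithful : ∀ A B : S3, (∀ x ∈ List.range 64, A • pt x = B • pt x) → A = B := by
  intro A B h
  apply Subtype.ext
  ext r c
  have h16 := congrFun (h 16 (by simp)) r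
  have h4 := congrFun (h 4 (by simp)) r
  have h1 := congrFun (h 1 (by simp)) r
  rw [smul_pt, smul_pt] at h16 h4 h1
  have e1 : code (16 / 16) = 1 := rfl
  have e2 : code (16 / 4) = 0 := rfl
  have e3 : code 16 = 0 := rfl
  have e4 : code (4 / 16) = 0 := rfl
  have e5 : code (4 / 4) = 1 := rfl
  have e6 : code 4 = 0 := rfl
  have e7 : code (1 / 16) = 0 := rfl
  have e8 : code (1 / 4) = 0 := rfl
  have e9 : code 1 = 1 := rfl
  simp only [e1, e2, e3, e4, e5, e6, e7, e8, e9, mul_one, mul_zero, add_zero, zero_add]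
    at h16 h4 h1
  fin_cases c
  · exact h16
  · exact h4
  · exact h1
end Cfsg.Agent.Lib.Helper30.L34
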