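import Mathlib
import Cfsg.Agent.Lib.Helper28.Sp44F4
import Cfsg.Agent.Lib.Helper89.SafePres

/-! # S2088 (Schur multiplier of `PSL₃(4)`): the concrete groups and generators

`K` is the concrete field with four elements `0, 1, ω, ω²` (coded `0, 1, 2, 3`), `S3 = SL₃(K)`,
`G0 = PSL₃(K)`; `Mg 0, …, Mg 3` are the four generators of order five, `Mg 4 = ω • 1` is the scalar
generator of the centre, `g i` their images in `G0`. -/

set_option autoImplicit false

namespace Cfsg.Agent.Lib.Helper30.L34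

open Cfsg.Agent.Lib.Helper28.Sp44F4

/-- the concrete field with four elements -/
abbrev K : Type := F4

/-- `SL₃(4)` -/
abbrev S3 : Type := Matrix.SpecialLinearGroup (Fin 3) K

/-- `PSL₃(4)` -/
abbrev G0 : Type := Matrix.ProjectiveSpecialLinearGroup (Fin 3) K

/-- `0, 1, 2, 3 ↦ 0, 1, ω, ω²` -/
def code (n : ℕ) : K :=
  match n % 4 with
  | 0 => F4.o
  | 1 => F4.i
  | 2 => F4.w
  | _ => F4.v

/-- the vector with number `x = 16 a + 4 b + c` is `(a, b, c)` -/
def pt (x : ℕ) : Fin 3 → K := ![code (x / 16), code (x / 4), code x]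

/-- a `3 × 3` matrix from the row-major list of its nine codes -/
def mk3 (l : List ℕ) : Matrix (Fin 3) (Fin 3) K := fun r c => code (l.getD (3 * r.val + c.val) 0)

/-- the codes of the generators `t0, …, t3` and of the scalar `ω` -/
def genL : List (List ℕ) := [
  [2, 1, 1, 3, 2, 3, 2, 2, 3],
  [3, 3, 2, 3, 2, 3, 2, 2, 3],
  [2, 1, 2, 1, 3, 3, 0, 2, 3],
  [1, 2, 2, 0, 1, 3, 0, 3, 3],
  [2, 0, 0, 0, 2, 0, 0, 0, 2]]

/-- the matrices of the generators -/
def MgMat (i : ℕ) : Matrix (Fin 3) (Fin 3) K := mk3 (genL.getD i [1, 0, 0, 0, 1, 0, 0, 0, 1])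

theorem MgMat_det (i : ℕ) : (MgMat i).det = 1 := by
  by_cases h : i < 5
  · interval_cases i <;> (rw [Matrix.det_fin_three]; decide)
  · have e : genL.getD i [1, 0, 0, 0, 1, 0, 0, 0, 1] = [1, 0, 0, 0, 1, 0, 0, 0, 1] :=
      List.getD_eq_default _ _ (by simp only [genL, List.length_cons, List.length_nil]; omega)
    unfold MgMat
    rw [e, Matrix.det_fin_three]
    decide

/-- the generators in `SL₃(4)` -/
def Mg (i : ℕ) : S3 := ⟨MgMat i, MgMat_det i⟩

/-- the projection `SL₃(4) → PSL₃(4)` -/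
def pi0 : S3 →* G0 := QuotientGroup.mk' _

/-- the generators in `PSL₃(4)` -/
def g (i : ℕ) : G0 := pi0 (Mg i)

end Cfsg.Agent.Lib.Helper30.L34
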