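import Cfsg.Agent.Lib.Helper30.L34.L1Chk0
import Cfsg.Agent.Lib.Helper30.L34.L1Rels

set_option autoImplicit false
set_option maxRecDepth 1000000
set_option maxHeartbeats 0
set_option Elab.async false

namespace Cfsg.Agent.Lib.Helper30.L34.L1

open Cfsg.Agent.Lib.Helper89.CosetCert Cfsg.Agent.Lib.Helper89.SafePres

theorem defs_ok : cert.defsOK = true := by decide +kernel

theorem subs_ok : cert.subsOK = true := by decide +kernel

theorem fin_ok : cert.finOK = true := by decide +kernel

theorem steps_ok : cert.checkSteps (cert.N - 1 + cert.j0) cert.steps = true := by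
  show cert.checkSteps (cert.N - 1 + cert.j0) ([steps0].flatten) = true
  rw [Cert.checkSteps_flatten]
  rw [Cert.checkChunks, chk0, Cert.checkChunks]
  rfl

theorem cert_ok : cert.check = true := by
  have h1 : decide (0 < cert.N) = true := by decide +kernel
  unfold Cert.check
  rw [h1, defs_ok, subs_ok, steps_ok, fin_ok]
  rfl

end Cfsg.Agent.Lib.Helper30.L34.L1
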