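import Cfsg.Agent.Lib.Helper89.SafePres

set_option autoImplicit false
set_option maxRecDepth 1000000
set_option maxHeartbeats 0
set_option Elab.async false

namespace Cfsg.Agent.Lib.Helper30.L34.L1

open Cfsg.Agent.Lib.Helper89.CosetCert Cfsg.Agent.Lib.Helper89.SafePres

def factB : ℕ := 0x301000400020000040001010003000400000300040100020000000002000001000100030000010002010000000100000000040000030004010002000300000100020100000001000000

def finB : ℕ := 0x3000200010004000400000000000300020001

def pw : List (ℕ × ℕ) := [(5, 0)]

def srels : List SRel := [].flatten

def rels : List Word := [
  [0, 0, 0, 0, 0]]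

def steps0 : List ℕ := [
  2920673172630759370461859008217091,
  180144054352216064,
  216172988810133505,
  252201923268050944,
  288230376689631233,
  324259311147548672,
  360288451763896321,
  396317386221813760,
  432345839643394049,
  468374774101311488,
  504403708559228929]

def steps : List ℕ := [steps0].flatten

def roots : List ℕ := [0, 1, 2, 3, 4]

def cert : Cert := ⟨1, 0, 5, factBig factB, rels, steps, 5, roots, numBig finB⟩

end Cfsg.Agent.Lib.Helper30.L34.L1
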