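import Cfsg.Agent.Lib.Helper30.L34.L2Data

set_option autoImplicit false
set_option maxRecDepth 1000000
set_option maxHeartbeats 0
set_option Elab.async false

namespace Cfsg.Agent.Lib.Helper30.L34.L2

open Cfsg.Agent.Lib.Helper89.CosetCert Cfsg.Agent.Lib.Helper89.SafePres

theorem chk0 : cert.checkSteps (cert.N - 1 + cert.j0) steps0 = true := by decide +kernel

end Cfsg.Agent.Lib.Helper30.L34.L2
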