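import Cfsg.Agent.Lib.Helper30.L34.L1Data
import Cfsg.Agent.Lib.Helper30.L34.L2Data
import Cfsg.Agent.Lib.Helper30.L34.L3Data
import Cfsg.Agent.Lib.Helper30.L34.L4Data

/-! # S2088 (Schur multiplier of `PSL₃(4)`): the safe relators used by all parts

Letters: `2 i = t_i`, `2 i + 1 = t_i⁻¹` for the four generators `t0, …, t3` of order five. -/

set_option autoImplicit false

namespace Cfsg.Agent.Lib.Helper30.L34

open Cfsg.Agent.Lib.Helper89.CosetCert Cfsg.Agent.Lib.Helper89.SafePres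

/-- conjugation relations `W t_i W⁻¹ = t_i⁻¹` used for perfectness -/
def selfRels : List SRel := [
  ⟨[2, 0, 3, 3], 0, 0, 1, true⟩,
  ⟨[0, 0, 3, 1], 1, 1, 1, true⟩,
  ⟨[0, 5, 0], 2, 2, 1, true⟩,
  ⟨[1, 4, 6, 5], 3, 3, 1, true⟩]

/-- all conjugation relators -/
def srelsAll : List SRel := L2.srels ++ L3.srels ++ L4.srels ++ selfRels

/-- the orders of the generators -/
def ord (i : ℕ) : ℕ := [5, 5, 5, 5].getD i 1

end Cfsg.Agent.Lib.Helper30.L34
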