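import Cfsg.Agent.Lib.Helper30.L34.Base
import Cfsg.Agent.Lib.Helper85.L34PI
import Cfsg.Agent.Lib.Helper30.L34.Rels
import Cfsg.Agent.Lib.Helper30.L34.Defs
import Cfsg.Agent.Lib.Helper89.OrbitLB
import Cfsg.Agent.Lib.Helper89.SafePres

/-!
# S2088: the generators of `SL₃(4)` and `PSL₃(4)`, table-driven on the 64 vectors
(clone of `Helper92/M22/M22G.lean`)
-/

set_option autoImplicit false
set_option maxRecDepth 100000
set_option maxHeartbeats 0

namespace Cfsg.Agent.Lib.Helper30.L34

open Cfsg Cfsg.Agent.Lib.Helper28.Sp44F4 Cfsg.Agent.Lib.Helper89.TableChain2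
open Cfsg.Agent.Lib.Helper89.OrbitLB Cfsg.Agent.Lib.Helper89.CosetCert Cfsg.Agent.Lib.Helper89.SafePres

/-- packed tables of the ten letters `t_i, t_i⁻¹` (`i < 4`) and `ω, ω⁻¹` (6 bits per vector) -/
def tabC : List ℕ := [13638785734266648616873332345836960804899202126828435255543007049502943592709848888469663795648777600911450095376320, 3988958296085786884185332499641406766708581974041137900843193121087705136232508107496230369746346897326415465858560, 14098049098367085540899151124379096267296674365773157096315736328397441883475540020529944241625200225717796614134720, 9395197637849069187909662524768191823931363316989050317394787007376634563681064928581014134993847951780202871936960, 38941855118791026728672835021566087632980133112098157902954663253202182028192069281302733287551110745231642524867520, 38970869861230966475534091405136443142565731178357893067075627855260648604948508560249926481780925268955875888024320, 32274119127536532430369434878125056029658874622305170238778295760912375917774223837447239409304298339615907624213440,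 10890611117928583119212926510963279878297853874805100272726270539156018829556761609117973819771633144635622459010880, 13153389583868813439888820855607030182925494708459527611837938568912989508787256383883920871272880879049742326444160, 26258529960472250484623990635216430637998962648569805787308138193490782982807008279648971334285595532247297572737216]

def tab (l x : ℕ) : ℕ := Nat.land (Nat.shiftRight (tabC.getD l 0) (6 * x)) 63

theorem tab_lt : ∀ l < 10, ∀ x < 64, tab l x < 64 := by decide +kernel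

theorem tab_inv : ∀ i < 5, ∀ x < 64, tab (2 * i) (tab (2 * i + 1) x) = x := by decide +kernel

theorem gen_smul_even : ∀ i < 5, ∀ x < 64, ∀ r : Fin 3,
    (Mg i).1 r 0 * code (x / 16) + (Mg i).1 r 1 * code (x / 4) + (Mg i).1 r 2 * code x =
      pt (tab (2 * i) x) r := by decide +kernel

theorem Mg_smul (i : ℕ) (hi : i < 5) (x : ℕ) (hx : x < 64) : Mg i • pt x = pt (tab (2 * i) x) := by
  funext r
  rw [smul_pt]
  exact gen_smul_even i hi x hx r

theorem lv_smul : ∀ l < 10, ∀ x < 64, lv Mg l • pt x = pt (tab l x) := by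
  intro l hl x hx
  unfold lv
  by_cases he : l % 2 = 0
  · rw [if_pos he]
    have h := Mg_smul (l / 2) (by omega) x hx
    rwa [show 2 * (l / 2) = l by omega] at h
  · rw [if_neg he]
    have el : 2 * (l / 2) + 1 = l := by omega
    have h1 : tab l x < 64 := tab_lt l hl x hx
    have h2 := Mg_smul (l / 2) (by omega) _ h1
    have h3 := tab_inv (l / 2) (by omega) x hx
    rw [el] at h3
    rw [h3] at h2
    rw [inv_smul_eq_iff, h2]

/-- the table-driven action data on the ten letters -/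
noncomputable def D : Data S3 (Fin 3 → K) where
  m := 10
  N := 64
  gen := lv Mg
  pt := pt
  tab := tab
  chk := List.range 64
  gen_smul := lv_smul
  tab_lt := tab_lt
  chk_lt := fun x hx => List.mem_range.1 hx
  faithful := faithful
  pt_inj := pt_inj

theorem D_ev (w : List ℕ) : D.ev w = ev Mg w := rfl

/-- `Bool` test that all words of a list act trivially on the 64 vectors -/
def relsOK (rs : List Word) : Bool :=
  rs.all (fun r => r.all (fun c => decide (c < 10)) &&
    (List.range 64).all (fun x => act tab r x == x))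

theorem relsOK_valid (rs : List Word) (h : relsOK rs = true) : ∀ r ∈ rs, ev Mg r = 1 := by
  intro r hr
  unfold relsOK at h
  rw [List.all_eq_true] at h
  have h1 := h r hr
  rw [Bool.and_eq_true, List.all_eq_true, List.all_eq_true] at h1
  rw [← D_ev, ← D.ev_nil]
  apply D.ev_eq_of_act (fun c hc => of_decide_eq_true (h1.1 c hc)) (fun c hc => by simp at hc)
  intro x hx
  rw [act_nil]
  exact beq_iff_eq.1 (h1.2 x hx)

theorem ev_ne_one (w : List ℕ) (hw : ∀ c ∈ w, c < 10) (x : ℕ) (hx : x < 64)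
    (h : act tab w x ≠ x) : ev Mg w ≠ 1 := by
  intro h1
  have h2 := D.ev_smul w hw x hx
  rw [D_ev, h1, one_smul] at h2
  exact h (D.pt_inj _ (D.act_lt w hw x hx) _ hx h2.symm)

/-! ### generation -/

def W0 : List (List ℕ) := [
  [],
  [0, 5],
  [4, 1],
  [2, 6, 0],
  [2, 5, 7],
  [0, 7, 0],
  [4, 0],
  [1, 2],
  [0, 6, 5],
  [4, 7],
  [5, 7],
  [0, 3, 5],
  [0, 2, 7],
  [2, 5, 5],
  [5, 2, 7],
  [3, 6, 5],
  [1, 7, 0],
  [1, 5, 7],
  [1, 6, 0],
  [6, 0],
  [7, 1],
  [3, 7, 0],
  [4, 0, 0],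
  [1],
  [5, 5],
  [1, 6, 2],
  [4, 2],
  [1, 4, 2],
  [5, 2, 5],
  [0, 5, 5],
  [0],
  [0, 4, 0],
  [0, 0],
  [4, 2, 7],
  [2, 7],
  [6, 2],
  [0, 0, 5],
  [3, 1],
  [2, 6, 1],
  [1, 1],
  [6, 1],
  [1, 7],
  [0, 7, 1],
  [5],
  [0, 6, 2],
  [3, 4, 0],
  [2],
  [1, 5, 5],
  [7, 0],
  [2, 5],
  [0, 7],
  [0, 6, 0],
  [2, 0, 5],
  [0, 0, 2],
  [5, 1],
  [0, 2],
  [0, 5, 1],
  [0, 4, 1],
  [3, 5],
  [1, 5],
  [7],
  [6, 5],
  [0, 0, 7, 0]]

theorem lb0 : lbCheck tab 10 [] 1 W0 = true := by decide +kernel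

def W1 : List (List ℕ) := [
  [],
  [4, 7, 3, 6, 1, 2],
  [0, 7, 1, 7, 7],
  [0, 0, 5, 3],
  [5, 6],
  [3, 4, 3, 6],
  [4, 4, 6, 2, 4],
  [6, 0, 5, 7, 5],
  [7, 4],
  [3, 6, 1, 3],
  [0, 2, 7, 2, 5],
  [7, 2, 2, 0],
  [1, 4, 1, 1],
  [6, 0, 7, 5],
  [6, 3, 0, 0, 7],
  [1, 3],
  [2, 0],
  [6, 6, 4, 0],
  [0, 6, 0, 5, 7],
  [3, 4],
  [6, 1, 6, 4, 2],
  [1, 5, 0, 6, 1],
  [5, 6, 3, 6],
  [1, 5, 7, 7],
  [0, 7, 1, 4, 0],
  [3, 7, 0, 3, 6, 3],
  [4, 6, 1, 7],
  [6, 1, 1, 2, 7],
  [7, 4, 3, 4],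
  [1, 3, 5, 6],
  [5, 2, 7, 2],
  [7, 2],
  [3, 6, 3, 4],
  [0, 2, 4, 6, 2],
  [3, 7, 7, 4, 0],
  [3, 6, 2, 0],
  [1, 4, 2, 6],
  [3, 6],
  [1, 3, 7, 2],
  [1, 7, 0, 5, 6, 5],
  [2, 5, 7, 7],
  [4, 0, 0, 5, 6, 1],
  [6, 6, 4, 3],
  [0, 4, 1, 5, 6, 0],
  [6, 1, 6, 4, 4],
  [7, 2, 5, 6],
  [1, 3, 7, 4],
  [6, 4, 3, 5, 7, 3],
  [6, 0, 3, 7],
  [5, 6, 3, 4],
  [0, 2, 4, 6, 4],
  [4, 4, 6, 5, 0],
  [3, 6, 3, 6],
  [6, 0, 4, 7, 5],
  [6, 0, 5, 3, 7],
  [3, 5, 6, 6, 5],
  [6, 2, 6, 0, 7],
  [5, 6, 1, 3],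
  [4, 4, 6, 5, 3],
  [6, 0, 5, 1, 7]]

theorem lb1 : lbCheck tab 10 [1] 4 W1 = true := by decide +kernel

def W2 : List (List ℕ) := [
  [],
  [2, 0, 7, 4, 4, 4, 6, 1, 1],
  [7, 2, 5, 2, 0, 2, 1, 1, 6],
  [1, 3, 4, 0, 0, 2, 5],
  [1, 3, 5, 2],
  [3, 6, 3, 4, 0, 7, 1, 4, 3],
  [3, 6, 2, 0, 6, 5, 3, 1, 7],
  [2, 0, 0, 0, 2, 2],
  [7, 2, 0, 0, 2, 6],
  [7, 4, 6, 5, 3, 3, 7],
  [7, 3, 5, 0, 2, 0, 5, 6],
  [6, 0, 4, 1, 7, 3, 3, 7, 5, 5],
  [6, 6, 4, 3, 6, 0, 2, 4, 7],
  [6, 6, 4, 3, 7, 4, 1, 3],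
  [5, 2, 5, 6, 4, 2, 4, 0, 6],
  [4, 6, 1, 2, 7, 5]]

theorem lb2 : lbCheck tab 10 [4, 1] 16 W2 = true := by decide +kernel


theorem card_H : 60480 ≤ Nat.card (D.H D.m) := by
  have h0 := fixH_level D [] 1 (by decide) (by simp) W0 lb0
  have h1 := fixH_level D [1] 4 (by decide) (by decide) W1 lb1
  have h2 := fixH_level D [4, 1] 16 (by decide) (by decide) W2 lb2
  have h3 : 0 < Nat.card (fixH D [16, 4, 1]) := Nat.card_pos
  rw [fixH_nil] at h0
  have e0 : W0.length = 63 := by decide
  have e1 : W1.length = 60 := by decide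
  have e2 : W2.length = 16 := by decide
  rw [e0] at h0; rw [e1] at h1; rw [e2] at h2
  omega

theorem closure_Mg : Subgroup.closure {y | ∃ i < 5, y = Mg i} = ⊤ := by
  have hle : D.H D.m ≤ Subgroup.closure {y | ∃ i < 5, y = Mg i} := by
    show Subgroup.closure (D.S 10) ≤ _
    rw [Subgroup.closure_le]
    rintro x ⟨l, hl, rfl⟩
    show lv Mg l ∈ _
    unfold lv
    split_ifs
    · exact Subgroup.subset_closure ⟨l / 2, by omega, rfl⟩
    · exact Subgroup.inv_mem _ (Subgroup.subset_closure ⟨l / 2, by omega, rfl⟩)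
  apply Subgroup.eq_top_of_card_eq
  apply le_antisymm (Subgroup.card_le_card_group _)
  rw [card_S3]
  exact le_trans card_H (Subgroup.card_le_of_le hle)

theorem g_def (i : ℕ) : g i = pi0 (Mg i) := rfl

theorem ev_g (w : Word) : ev g w = pi0 (ev Mg w) := (ev_map_hom pi0 Mg w).symm

theorem Mg_eq_one (i : ℕ) (hi : 5 ≤ i) : Mg i = 1 := by
  apply Subtype.ext
  have e : genL.getD i [1, 0, 0, 0, 1, 0, 0, 0, 1] = [1, 0, 0, 0, 1, 0, 0, 0, 1] :=
    List.getD_eq_default _ _ (by simp only [genL, List.length_cons, List.length_nil]; omega)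
  show MgMat i = 1
  unfold MgMat
  rw [e]
  ext r c
  fin_cases r <;> fin_cases c <;> decide

theorem g_eq_one (i : ℕ) (hi : 4 ≤ i) : g i = 1 := by
  by_cases h : i = 4
  · subst h
    exact pi0_scalar
  · rw [g_def, Mg_eq_one i (by omega), map_one]

theorem closure_g : Subgroup.closure {y | ∃ i < 4, y = g i} = ⊤ := by
  have hm : Subgroup.map pi0 (Subgroup.closure {y | ∃ i < 5, y = Mg i}) = ⊤ := by
    rw [closure_Mg]
    exact Subgroup.map_top_of_surjective pi0 pi0_surjective
  rw [MonoidHom.map_closure] at hm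
  apply top_unique
  rw [← hm]
  apply (Subgroup.closure_le _).2
  rintro _ ⟨y, ⟨i, hi, rfl⟩, rfl⟩
  by_cases h4 : i < 4
  · exact Subgroup.subset_closure ⟨i, h4, rfl⟩
  · have e : i = 4 := by omega
    subst e
    rw [show pi0 (Mg 4) = 1 from pi0_scalar]
    exact Subgroup.one_mem _

/-! ### orders -/

def powRels : List Word := [powWord 5 0, powWord 5 1, powWord 5 2, powWord 5 3]

theorem powRels_ok : relsOK powRels = true := by decide +kernel

theorem Mg_pow (i : ℕ) (hi : i < 4) : Mg i ^ 5 = 1 := by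
  have hv := relsOK_valid powRels powRels_ok
  interval_cases i
  · have := hv (powWord 5 0) (by simp [powRels])
    rwa [ev_powWord] at this
  · have := hv (powWord 5 1) (by simp [powRels])
    rwa [ev_powWord] at this
  · have := hv (powWord 5 2) (by simp [powRels])
    rwa [ev_powWord] at this
  · have := hv (powWord 5 3) (by simp [powRels])
    rwa [ev_powWord] at this

theorem ord_lt (i : ℕ) (hi : i < 4) : ord i = 5 := by
  interval_cases i <;> rfl

theorem ord_ge (i : ℕ) (hi : 4 ≤ i) : ord i = 1 := by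
  unfold ord
  exact List.getD_eq_default _ _ (by simp only [List.length_cons, List.length_nil]; omega)

theorem g_pow (i : ℕ) : g i ^ ord i = 1 := by
  by_cases h : i < 4
  · rw [ord_lt i h, g_def, ← map_pow, Mg_pow i h, map_one]
  · rw [g_eq_one i (by omega), one_pow]

theorem ord_coprime (i : ℕ) : (ord i).Coprime 576 := by
  by_cases h : i < 4
  · rw [ord_lt i h]
    decide
  · rw [ord_ge i (by omega)]
    exact Nat.coprime_one_left 576

/-! ### validity of the relators -/

theorem validG : relsOK (srelsAll.map SRel.word) = true := by decide +kernel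

theorem hvalid : ∀ r ∈ srelsAll, ev g r.word = 1 := fun r hr => by
  rw [ev_g, relsOK_valid _ validG _ (List.mem_map_of_mem hr), map_one]

/-! ### elements of order five and seven in `PSL₃(4)` -/

theorem ev_g_ne_one (w c : Word) (hw : ∀ l ∈ w, l < 10) (hc : ∀ l ∈ c, l < 10) (x : ℕ) (hx : x < 64)
    (h : act tab (c ++ w ++ winv c ++ winv w) x ≠ x) : ev g w ≠ 1 := by
  intro h1
  rw [ev_g] at h1
  have hmem : ev Mg w ∈ Subgroup.center S3 := by
    have := (QuotientGroup.eq_one_iff (N := Subgroup.center S3) (ev Mg w)).1 h1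
    exact this
  have hcomm : ev Mg c * ev Mg w = ev Mg w * ev Mg c := (Subgroup.mem_center_iff.1 hmem (ev Mg c))
  have hlt : ∀ l ∈ c ++ w ++ winv c ++ winv w, l < 10 := by
    intro l hl
    simp only [List.mem_append] at hl
    rcases hl with ((hl | hl) | hl) | hl
    · exact hc l hl
    · exact hw l hl
    · unfold winv at hl
      rw [List.mem_reverse, List.mem_map] at hl
      obtain ⟨a, ha, rfl⟩ := hl
      have := hc a ha
      unfold linv
      split_ifs <;> omega
    · unfold winv at hl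
      rw [List.mem_reverse, List.mem_map] at hl
      obtain ⟨a, ha, rfl⟩ := hl
      have := hw a ha
      unfold linv
      split_ifs <;> omega
  apply ev_ne_one _ hlt x hx h
  rw [ev_append, ev_append, ev_append, ev_winv, ev_winv, hcomm]
  group

theorem g0_ne_one : g 0 ≠ 1 := by
  have h := ev_g_ne_one [0] [2] (by decide) (by decide) 1 (by decide) (by decide +kernel)
  rwa [ev_cons, ev_nil, mul_one, show (0 : ℕ) = 2 * 0 from rfl, lv_two_mul] at h

theorem orderOf_g0 : orderOf (g 0) = 5 := by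
  have : Fact (Nat.Prime 5) := ⟨by norm_num⟩
  have h := g_pow 0
  rw [ord_lt 0 (by norm_num)] at h
  exact orderOf_eq_prime h g0_ne_one

/-- a word of order seven -/
def w7 : Word := [0, 6, 2]

theorem w7_pow : relsOK [(List.replicate 7 w7).flatten] = true := by decide +kernel

theorem ev_flatten_replicate {L : Type*} [Group L] (t : ℕ → L) (w : Word) (n : ℕ) :
    ev t (List.replicate n w).flatten = ev t w ^ n := by
  induction n with
  | zero => simp
  | succ n ih => rw [List.replicate_succ, List.flatten_cons, ev_append, ih, pow_succ']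

/-- an element of order seven -/
def x7 : G0 := ev g w7

theorem orderOf_x7 : orderOf x7 = 7 := by
  have : Fact (Nat.Prime 7) := ⟨by norm_num⟩
  apply orderOf_eq_prime
  · show ev g w7 ^ 7 = 1
    rw [ev_g, ← map_pow, ← ev_flatten_replicate]
    rw [relsOK_valid _ w7_pow _ (List.mem_singleton.2 rfl), map_one]
  · exact ev_g_ne_one w7 [0] (by decide) (by decide) 1 (by decide) (by decide +kernel)

end Cfsg.Agent.Lib.Helper30.L34
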