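import Cfsg.Agent.Lib.Helper30.L34.L34G
import Cfsg.Agent.Lib.Helper93.L34Model

/-! # S2088: the three central words are trivial in `PSL₃(4)` -/

set_option autoImplicit false
set_option maxRecDepth 100000
set_option maxHeartbeats 0

namespace Cfsg.Agent.Lib.Helper30.L34

open Cfsg.Agent.Lib.Helper89.CosetCert Cfsg.Agent.Lib.Helper89.SafePres

/-- in `SL₃(4)` the word `wz3` is the scalar `ω`, the words `wza`, `wzb` are trivial -/
theorem zG_ok : relsOK [Mod.wz3 ++ [9], Mod.wza, Mod.wzb] = true := by decide +kernel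

theorem z3_g : ev g Mod.wz3 = 1 := by
  have h := relsOK_valid _ zG_ok (Mod.wz3 ++ [9]) (by simp)
  rw [ev_append, ev_cons, ev_nil, mul_one, show (9 : ℕ) = 2 * 4 + 1 from rfl, lv_two_mul_add_one,
    mul_inv_eq_one] at h
  rw [ev_g, h]
  exact pi0_scalar

theorem za_g : ev g Mod.wza = 1 := by
  rw [ev_g, relsOK_valid _ zG_ok Mod.wza (by simp), map_one]

theorem zb_g : ev g Mod.wzb = 1 := by
  rw [ev_g, relsOK_valid _ zG_ok Mod.wzb (by simp), map_one]

end Cfsg.Agent.Lib.Helper30.L34
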