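import Cfsg.Agent.Lib.Helper30.L34.L4Data

set_option autoImplicit false
set_option maxRecDepth 1000000
set_option maxHeartbeats 0
set_option Elab.async false

namespace Cfsg.Agent.Lib.Helper30.L34.L4

open Cfsg.Agent.Lib.Helper89.CosetCert Cfsg.Agent.Lib.Helper89.SafePres

theorem chk4 : cert.checkSteps (cert.N - 1 + cert.j0 + steps0.length + steps1.length + steps2.length + steps3.length) steps4 = true := by decide +kernel

theorem chk5 : cert.checkSteps (cert.N - 1 + cert.j0 + steps0.length + steps1.length + steps2.length + steps3.length + steps4.length) steps5 = true := by decide +kernel

theorem chk6 : cert.checkSteps (cert.N - 1 + cert.j0 + steps0.length + steps1.length + steps2.length + steps3.length + steps4.length + steps5.length) steps6 = true := by decide +kernel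

theorem chk7 : cert.checkSteps (cert.N - 1 + cert.j0 + steps0.length + steps1.length + steps2.length + steps3.length + steps4.length + steps5.length + steps6.length) steps7 = true := by decide +kernel

end Cfsg.Agent.Lib.Helper30.L34.L4
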