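import Cfsg.Agent.Lib.Helper30.L34.L34G
import Cfsg.Agent.Lib.Helper30.L34.L34GZ
import Cfsg.Agent.Lib.Helper30.L34.L1Cert
import Cfsg.Agent.Lib.Helper30.L34.L2Cert
import Cfsg.Agent.Lib.Helper30.L34.L3Cert
import Cfsg.Agent.Lib.Helper30.L34.L4Cert
import Cfsg.Agent.Lib.Helper93.L34Model
import Cfsg.Agent.Lib.Helper33.L34KER
import Cfsg.Agent.Lib.Helper92.M22.StemE
import Cfsg.Agent.Lib.Helper2.Sz8STEM
import Cfsg.Agent.Lib.Helper89.MultTransfer

/-! # The Schur multiplier of `PSL₃(4)` is `Z/3 × Z/4 × Z/4` (assembly; clone of `Helper92/M22/Main.lean`) -/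

set_option autoImplicit false
set_option maxRecDepth 1000000
set_option maxHeartbeats 0

namespace Cfsg.Agent.Lib.Helper30.L34

open Cfsg Cfsg.Agent.Lib.Helper89.CosetCert Cfsg.Agent.Lib.Helper89.SafePres
open Cfsg.Agent.Lib.Helper89.StemSafe Cfsg.Agent.Lib.Helper89.SafePres2
open Cfsg.Agent.Lib.Helper92.StemE
open scoped commutatorElement

/-! ### the presentation bound -/

theorem pw1 : ∀ q ∈ L1.pw, q.1 = ord q.2 ∧ q.2 < 4 := by decide
theorem pw2 : ∀ q ∈ L2.pw, q.1 = ord q.2 ∧ q.2 < 4 := by decide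
theorem pw3 : ∀ q ∈ L3.pw, q.1 = ord q.2 ∧ q.2 < 4 := by decide
theorem pw4 : ∀ q ∈ L4.pw, q.1 = ord q.2 ∧ q.2 < 4 := by decide

theorem closure_empty {L : Type*} [Group L] (t : ℕ → L) :
    Nat.card (Subgroup.closure {y | ∃ i < 0, y = t i}) ≤ 1 := by
  have : {y | ∃ i < 0, y = t i} = (∅ : Set L) := by
    ext y
    simp
  rw [this, Subgroup.closure_empty, Subgroup.card_bot]

/-- the chain of coset enumerations bounds the order of any group satisfying the relators -/
theorem hbound (L : Type) [Group L] [Finite L] (t : ℕ → L) (ht : ∀ i, t i ^ ord i = 1)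
    (hs : ∀ r ∈ srelsAll, ev t r.word = 1) :
    Nat.card (Subgroup.closure {y | ∃ i < 4, y = t i}) ≤ 48 * 20160 := by
  have hs2 : ∀ r ∈ L2.srels, ev t r.word = 1 := fun r hr => hs r (by
    unfold srelsAll; simp only [List.mem_append]; tauto)
  have hs3 : ∀ r ∈ L3.srels, ev t r.word = 1 := fun r hr => hs r (by
    unfold srelsAll; simp only [List.mem_append]; tauto)
  have hs4 : ∀ r ∈ L4.srels, ev t r.word = 1 := fun r hr => hs r (by
    unfold srelsAll; simp only [List.mem_append]; tauto)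
  have hr1 : ∀ r ∈ L1.cert.rels, ev t r = 1 := by
    show ∀ r ∈ L1.rels, ev t r = 1
    rw [L1.rels_eq]
    exact rels_valid t _ _ (fun q hq => by rw [(pw1 q hq).1]; exact ht _)
      (fun _ hr => (L1.mem_srels hr).elim)
  have hr2 : ∀ r ∈ L2.cert.rels, ev t r = 1 := by
    show ∀ r ∈ L2.rels, ev t r = 1
    rw [L2.rels_eq]
    exact rels_valid t _ _ (fun q hq => by rw [(pw2 q hq).1]; exact ht _) hs2
  have hr3 : ∀ r ∈ L3.cert.rels, ev t r = 1 := by
    show ∀ r ∈ L3.rels, ev t r = 1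
    rw [L3.rels_eq]
    exact rels_valid t _ _ (fun q hq => by rw [(pw3 q hq).1]; exact ht _) hs3
  have hr4 : ∀ r ∈ L4.cert.rels, ev t r = 1 := by
    show ∀ r ∈ L4.rels, ev t r = 1
    rw [L4.rels_eq]
    exact rels_valid t _ _ (fun q hq => by rw [(pw4 q hq).1]; exact ht _) hs4
  have c1 := cert_step t L1.cert L1.cert_ok hr1 1 (closure_empty t)
  have c2 := cert_step t L2.cert L2.cert_ok hr2 _ c1
  have c3 := cert_step t L3.cert L3.cert_ok hr3 _ c2
  have c4 := cert_step t L4.cert L4.cert_ok hr4 _ c3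
  exact c4

/-! ### the exponent of the kernel of a stem extension -/

theorem hexp (Γ : Type) [Group Γ] [Finite Γ] (σ : Γ →* G0)
    (hσ : Cfsg.IsStemExtension σ) : ∀ z ∈ σ.ker, z ^ 576 = 1 := by
  intro z hz
  have hc := pow_card_eq_one σ hσ hz
  rw [card_G0] at hc
  have hd : orderOf z ∣ 576 * 35 := by
    have := orderOf_dvd_of_pow_eq_one hc
    norm_num at this ⊢
    exact this
  have h5 : ¬ 5 ∣ orderOf z :=
    not_dvd_of_cyclic_sylow σ hσ 5 (by norm_num) (g 0) 1 4032
      (by rw [pow_one]; exact orderOf_g0)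
      (by rw [card_G0]; norm_num) (by norm_num) hz
  have h7 : ¬ 7 ∣ orderOf z :=
    not_dvd_of_cyclic_sylow σ hσ 7 (by norm_num) x7 1 2880
      (by rw [pow_one]; exact orderOf_x7)
      (by rw [card_G0]; norm_num) (by norm_num) hz
  have hcop : Nat.Coprime (orderOf z) 35 := by
    have e : (35 : ℕ) = 5 * 7 := by norm_num
    rw [e]
    refine Nat.Coprime.mul_right ?_ ?_
    · exact (Nat.Coprime.symm ((Nat.Prime.coprime_iff_not_dvd (by norm_num)).2 h5))
    · exact (Nat.Coprime.symm ((Nat.Prime.coprime_iff_not_dvd (by norm_num)).2 h7))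
  exact orderOf_dvd_iff_pow_eq_one.mp (hcop.dvd_of_dvd_mul_right hd)

/-! ### the explicit cover -/

/-- the generators of the cover inside `Perm (Fin N) × PSL₃(4)` -/
noncomputable def tau (i : ℕ) : Equiv.Perm (Fin 959) × G0 := (Mod.gm i, g i)

/-- the cover -/
noncomputable def Gam : Subgroup (Equiv.Perm (Fin 959) × G0) :=
  Subgroup.closure {y | ∃ i < 4, y = tau i}

theorem tau_mem (i : ℕ) : tau i ∈ Gam := by
  by_cases hi : i < 4
  · exact Subgroup.subset_closure ⟨i, hi, rfl⟩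
  · have h1 : tau i = 1 := by
      unfold tau
      rw [Mod.gm_eq_one i (by omega), g_eq_one i (by omega)]
      rfl
    rw [h1]
    exact Gam.one_mem

/-- the generators as elements of the cover -/
noncomputable def tau' (i : ℕ) : Gam := ⟨tau i, tau_mem i⟩

theorem ev_tau' (w : Word) : ((ev tau' w : Gam) : Equiv.Perm (Fin 959) × G0) =
    (ev Mod.gm w, ev g w) := by
  have h1 := ev_map_hom Gam.subtype tau' w
  have h2 : (fun i => Gam.subtype (tau' i)) = fun i => (Mod.gm i, g i) := rfl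
  rw [h2, ev_prod] at h1
  exact h1

theorem ev_tau'_eq_one (w : Word) (h1 : ev Mod.gm w = 1) (h2 : ev g w = 1) : ev tau' w = 1 := by
  apply Subtype.ext
  rw [ev_tau', h1, h2]
  rfl

/-- the projection of the cover onto `PSL₃(4)` -/
noncomputable def sig : Gam →* G0 := (MonoidHom.snd _ _).comp Gam.subtype

theorem sig_tau' (i : ℕ) : sig (tau' i) = g i := rfl

theorem tau'_pow (i : ℕ) : tau' i ^ ord i = 1 := by
  apply Subtype.ext
  show (Mod.gm i, g i) ^ ord i = 1
  rw [Prod.pow_mk, Mod.gm_pow, g_pow]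
  rfl

theorem tau'_rel : ∀ r ∈ srelsAll, ev tau' r.word = 1 := fun r hr =>
  ev_tau'_eq_one _ (Mod.hvalidM r hr) (hvalid r hr)

theorem tau'_gen : Subgroup.closure {y | ∃ i < 4, y = tau' i} = ⊤ := by
  have h := Subgroup.closure_closure_coe_preimage (k := {y | ∃ i < 4, y = tau i})
  have e : {y : Gam | ∃ i < 4, y = tau' i} =
      ((↑) ⁻¹' {y | ∃ i < 4, y = tau i} : Set Gam) := by
    ext y
    constructor
    · rintro ⟨i, hi, rfl⟩
      exact ⟨i, hi, rfl⟩
    · rintro ⟨i, hi, h⟩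
      exact ⟨i, hi, Subtype.ext h⟩
  rw [e]
  exact h

theorem self_mem : ∀ i < 4, ∃ r ∈ srelsAll, r.i = i ∧ r.j = i ∧
    ¬ ((ord i : ℤ) ∣ (if r.neg then -(r.f : ℤ) else (r.f : ℤ)) - 1) := by decide

theorem ord_prime : ∀ i < 4, (ord i).Prime := by
  intro i hi
  rw [ord_lt i hi]
  norm_num

theorem tau'_perf : ∀ i < 4, tau' i ∈ commutator Gam := by
  intro i hi
  obtain ⟨r, hr, hri, hrj, hz⟩ := self_mem i hi
  have h := (ev_srel_eq_one_iff tau' r).mp (tau'_rel r hr)
  rw [hri, hrj] at h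
  exact mem_commutator_of_conj (ev tau' r.W) (tau' i) (ord i) (ord_prime i hi) (tau'_pow i) _ h hz

/-! ### the kernel -/

/-- a central word gives a central element of the kernel -/
theorem central_word (w : Word) (hg : ev g w = 1)
    (hc : ∀ i < 4, Mod.gm i * ev Mod.gm w = ev Mod.gm w * Mod.gm i) :
    ev tau' w ∈ sig.ker ∧ ev tau' w ∈ Subgroup.center Gam := by
  constructor
  · rw [MonoidHom.mem_ker]
    show ((ev tau' w : Gam) : Equiv.Perm (Fin 959) × G0).2 = 1
    rw [ev_tau', hg]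
  · have hcl : ∀ y ∈ Subgroup.closure {y | ∃ i < 4, y = tau' i}, y * ev tau' w = ev tau' w * y := by
      intro y hy
      induction hy using Subgroup.closure_induction with
      | mem x hx =>
        obtain ⟨i, hi, rfl⟩ := hx
        apply Subtype.ext
        rw [Subgroup.coe_mul, Subgroup.coe_mul, ev_tau', hg]
        show (Mod.gm i, g i) * (ev Mod.gm w, 1) = (ev Mod.gm w, 1) * (Mod.gm i, g i)
        rw [Prod.mk_mul_mk, Prod.mk_mul_mk, hc i hi, mul_one, one_mul]
      | one => rw [one_mul, mul_one]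
      | mul x y _ _ hx hy => rw [mul_assoc, hy, ← mul_assoc, hx, mul_assoc]
      | inv x _ hx =>
        have : x⁻¹ * (x * ev tau' w) * x⁻¹ = x⁻¹ * (ev tau' w * x) * x⁻¹ := by rw [hx]
        simpa [mul_assoc] using this.symm
    rw [Subgroup.mem_center_iff]
    intro y
    exact hcl y (by rw [tau'_gen]; trivial)

theorem ev_tau'_pow_ne (w : Word) (_hg : ev g w = 1) (n : ℕ) (h : ev Mod.gm w ^ n ≠ 1) :
    ev tau' w ^ n ≠ 1 := by
  intro h1
  have h2 := congrArg (fun y : Gam => (y : Equiv.Perm (Fin 959) × G0).1) h1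
  simp only [Subgroup.coe_pow, ev_tau', Prod.pow_mk] at h2
  exact h h2

theorem ev_tau'_pow_eq (w : Word) (hg : ev g w = 1) (n : ℕ) (h : ev Mod.gm w ^ n = 1) :
    ev tau' w ^ n = 1 := by
  apply Subtype.ext
  rw [Subgroup.coe_pow, ev_tau', hg, Prod.pow_mk, h, one_pow]
  rfl

theorem sig_surjective : Function.Surjective sig := by
  have hmap : (⊤ : Subgroup Gam).map sig = ⊤ := by
    rw [← tau'_gen, map_closure_eq sig 4 tau' g sig_tau', closure_g]
  intro y
  have : y ∈ (⊤ : Subgroup Gam).map sig := by rw [hmap]; trivial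
  obtain ⟨x, -, rfl⟩ := this
  exact ⟨x, rfl⟩

theorem card_ker_le : Nat.card sig.ker ≤ 48 := by
  have hcard0 : Nat.card Gam ≤ 48 * 20160 := by
    have := hbound Gam tau' tau'_pow tau'_rel
    rwa [tau'_gen, Subgroup.card_top] at this
  have hkermul : Nat.card Gam = Nat.card sig.ker * 20160 := by
    have h1 := Subgroup.card_mul_index sig.ker
    rw [Subgroup.index_ker, MonoidHom.range_eq_top.mpr sig_surjective, Subgroup.card_top,
      card_G0] at h1
    exact h1.symm
  rw [hkermul] at hcard0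
  exact Nat.le_of_mul_le_mul_right hcard0 (by norm_num)

/-- the three central generators of the kernel -/
noncomputable def Z0 : Subgroup Gam :=
  Subgroup.closure {ev tau' Mod.wz3, ev tau' Mod.wza, ev tau' Mod.wzb}

theorem Z0_le_ker : Z0 ≤ sig.ker := by
  apply (Subgroup.closure_le _).2
  intro y hy
  simp only [Set.mem_insert_iff, Set.mem_singleton_iff] at hy
  rcases hy with rfl | rfl | rfl
  · exact (central_word _ z3_g Mod.z3_comm).1
  · exact (central_word _ za_g Mod.za_comm).1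
  · exact (central_word _ zb_g Mod.zb_comm).1

theorem Z0_le_center : Z0 ≤ Subgroup.center Gam := by
  apply (Subgroup.closure_le _).2
  intro y hy
  simp only [Set.mem_insert_iff, Set.mem_singleton_iff] at hy
  rcases hy with rfl | rfl | rfl
  · exact (central_word _ z3_g Mod.z3_comm).2
  · exact (central_word _ za_g Mod.za_comm).2
  · exact (central_word _ zb_g Mod.zb_comm).2

theorem card_A : Nat.card (Multiplicative (ZMod 3 × ZMod 4 × ZMod 4)) = 48 := by
  rw [Nat.card_eq_fintype_card]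
  rfl

theorem Z0_equiv : Nonempty (Z0 ≃* Multiplicative (ZMod 3 × ZMod 4 × ZMod 4)) := by
  have hmem : ∀ y ∈ ({ev tau' Mod.wz3, ev tau' Mod.wza, ev tau' Mod.wzb} : Set Gam), y ∈ Z0 :=
    fun y hy => Subgroup.subset_closure hy
  have h3 : ev tau' Mod.wz3 ∈ Z0 := hmem _ (by simp)
  have ha : ev tau' Mod.wza ∈ Z0 := hmem _ (by simp)
  have hb : ev tau' Mod.wzb ∈ Z0 := hmem _ (by simp)
  have hcard : Nat.card Z0 ≤ 48 := le_trans (Subgroup.card_le_of_le Z0_le_ker) card_ker_le
  have hcomm : ∀ x y : Z0, x * y = y * x := by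
    intro x y
    apply Subtype.ext
    rw [Subgroup.coe_mul, Subgroup.coe_mul]
    exact ((Subgroup.mem_center_iff.1 (Z0_le_center x.2)) y.1).symm
  refine exists_mulEquiv_ker hcomm hcard ⟨_, h3⟩ ⟨_, ha⟩ ⟨_, hb⟩ ?_ ?_ ?_ ?_ ?_ ?_ ?_
  · apply Subtype.ext
    rw [Subgroup.coe_pow]
    exact ev_tau'_pow_eq _ z3_g 3 Mod.z3_pow
  · apply Subtype.ext
    rw [Subgroup.coe_pow]
    exact ev_tau'_pow_eq _ za_g 4 Mod.za_pow
  · apply Subtype.ext
    rw [Subgroup.coe_pow]
    exact ev_tau'_pow_eq _ zb_g 4 Mod.zb_pow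
  · intro h
    have h1 := congrArg Subtype.val h
    have h2 := ev_tau'_pow_ne _ z3_g 1 (by rw [pow_one]; exact Mod.z3_ne)
    rw [pow_one] at h2
    exact h2 h1
  · intro h
    have h1 := congrArg Subtype.val h
    rw [Subgroup.coe_pow] at h1
    exact ev_tau'_pow_ne _ za_g 2 Mod.za_sq_ne h1
  · intro h
    have h1 := congrArg Subtype.val h
    rw [Subgroup.coe_pow] at h1
    exact ev_tau'_pow_ne _ zb_g 2 Mod.zb_sq_ne h1
  · intro h
    have h1 := congrArg Subtype.val h
    rw [Subgroup.coe_mul, Subgroup.coe_pow, Subgroup.coe_pow] at h1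
    have h2 := congrArg (fun y : Gam => (y : Equiv.Perm (Fin 959) × G0).1) h1
    simp only [Subgroup.coe_mul, Subgroup.coe_pow, ev_tau', Prod.pow_mk, Prod.mk_mul_mk] at h2
    exact Mod.zab_sq_ne h2

theorem Z0_eq_ker : Z0 = sig.ker := by
  obtain ⟨e⟩ := Z0_equiv
  have h1 : Nat.card Z0 = 48 := by rw [Nat.card_congr e.toEquiv, card_A]
  apply Subgroup.eq_of_le_of_card_ge Z0_le_ker
  rw [h1]
  exact card_ker_le

/-- **The Schur multiplier of the concrete `PSL₃(4)` is `Z/3 × Z/4 × Z/4`.** -/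
theorem main0 : Cfsg.HasSchurMultiplier G0 (Multiplicative (ZMod 3 × ZMod 4 × ZMod 4)) := by
  obtain ⟨e⟩ := Z0_equiv
  have hk : Nat.card sig.ker = 48 := by
    rw [← Z0_eq_ker, Nat.card_congr e.toEquiv, card_A]
  refine Cfsg.Agent.Lib.Helper92.Sz8.hasMult_of_model 576 48 (by norm_num) hexp 4 g ord g_pow
    ord_coprime closure_g srelsAll hvalid ?_ Gam sig tau' sig_tau' tau'_pow tau'_rel tau'_gen
    (le_of_eq hk.symm) ((MulEquiv.subgroupCongr Z0_eq_ker).symm.trans e) ?_ tau'_perf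
  · intro L _ _ t ht hs
    rw [card_G0]
    exact hbound L t ht hs
  · rw [← Z0_eq_ker]
    exact Z0_le_center

universe u

/-- **The Schur multiplier of `PSL₃(F)`, `|F| = 4`, is `Z/3 × Z/4 × Z/4`.** -/
theorem main {F : Type u} [Field F] [Fintype F] (hF : Fintype.card F = 4) :
    Cfsg.HasSchurMultiplier (Matrix.ProjectiveSpecialLinearGroup (Fin 3) F)
      (Multiplicative (ZMod 3 × ZMod 4 × ZMod 4)) := by
  obtain ⟨e⟩ := exists_mulEquiv_G0 hF
  exact Cfsg.Agent.Lib.Helper89.MultTransfer.hasSchurMultiplier_of_mulEquiv e main0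

end Cfsg.Agent.Lib.Helper30.L34
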