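import Cfsg.Agent.Lib.Helper30.L34.Univ
import Cfsg.Prelude.Def_CaseTheorems

/-! # Uniqueness of the quasisimple group `2².PSL₃(4)`

A stem extension of `PSL₃(4)` with kernel elementary abelian of order four is `Gam ⧸ Sq`, where
`Sq` is the subgroup of squares of the kernel `Z/3 × Z/4 × Z/4` of the universal cover `Gam`. -/

set_option autoImplicit false
set_option maxRecDepth 1000000
set_option maxHeartbeats 0

namespace Cfsg.Agent.Lib.Helper30.L34

open Cfsg

universe v w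

/-- the multiplier, multiplicatively -/
abbrev AM : Type := Multiplicative (ZMod 3 × ZMod 4 × ZMod 4)

/-- an isomorphism of the kernel of `sig` with `Z/3 × Z/4 × Z/4` -/
noncomputable def eA : sig.ker ≃* AM :=
  Classical.choice (by
    obtain ⟨e⟩ := Z0_equiv
    exact ⟨(MulEquiv.subgroupCongr Z0_eq_ker).symm.trans e⟩)

/-- the squares in `Z/3 × Z/4 × Z/4` -/
def QM : Subgroup AM := (powMonoidHom 2 : AM →* AM).range

theorem card_QM : Nat.card QM = 12 := by
  unfold QM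
  rw [← SetLike.coe_sort_coe, MonoidHom.coe_range, Nat.card_coe_set_eq,
    Set.ncard_eq_toFinset_card', Set.toFinset_range]
  decide

/-- the squares of the kernel of `sig` -/
noncomputable def Sq : Subgroup Gam := (QM.map eA.symm.toMonoidHom).map sig.ker.subtype

theorem card_Sq : Nat.card Sq = 12 := by
  unfold Sq
  rw [Subgroup.card_map_of_injective (Subgroup.subtype_injective _),
    Subgroup.card_map_of_injective eA.symm.injective, card_QM]

theorem mem_Sq {y : Gam} (hy : y ∈ Sq) : ∃ x ∈ sig.ker, y = x ^ 2 := by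
  obtain ⟨a, ⟨m, ⟨n, rfl⟩, rfl⟩, rfl⟩ := hy
  refine ⟨(eA.symm n : sig.ker), (eA.symm n).2, ?_⟩
  show ((eA.symm (n ^ 2) : sig.ker) : Gam) = ((eA.symm n : sig.ker) : Gam) ^ 2
  rw [map_pow, Subgroup.coe_pow]

section

variable (Γ : Type v) [Group Γ] [Finite Γ] (σ : Γ →* G0) (hσ : Cfsg.IsStemExtension σ)
  (h4 : Nat.card σ.ker = 4) (hsq : ∀ z ∈ σ.ker, z * z = 1)
  (ψ : Gam →* Γ) (hψs : Function.Surjective ψ) (hψ : ∀ y, σ (ψ y) = sig y)

include hσ h4 hψs in
theorem card_ker_psi : Nat.card ψ.ker = 12 := by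
  have h1 := Subgroup.card_mul_index ψ.ker
  rw [Subgroup.index_ker, MonoidHom.range_eq_top.mpr hψs, Subgroup.card_top, card_Gam] at h1
  have h2 := Subgroup.card_mul_index σ.ker
  rw [Subgroup.index_ker, MonoidHom.range_eq_top.mpr hσ.1, Subgroup.card_top, card_G0, h4] at h2
  rw [← h2] at h1
  omega

include hσ h4 hsq hψs hψ in
theorem ker_psi_eq : ψ.ker = Sq := by
  symm
  apply Subgroup.eq_of_le_of_card_ge
  · intro y hy
    obtain ⟨x, hx, rfl⟩ := mem_Sq hy
    rw [MonoidHom.mem_ker, map_pow, pow_two]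
    apply hsq
    rw [MonoidHom.mem_ker, hψ]
    exact hx
  · rw [card_Sq, card_ker_psi Γ σ hσ h4 ψ hψs]

end

/-- two stem extensions of `PSL₃(4)` with kernels elementary abelian of order four are isomorphic -/
theorem stem_unique (Γ₁ : Type v) [Group Γ₁] [Finite Γ₁] (σ₁ : Γ₁ →* G0)
    (hσ₁ : Cfsg.IsStemExtension σ₁) (h41 : Nat.card σ₁.ker = 4) (hsq1 : ∀ z ∈ σ₁.ker, z * z = 1)
    (Γ₂ : Type w) [Group Γ₂] [Finite Γ₂] (σ₂ : Γ₂ →* G0)
    (hσ₂ : Cfsg.IsStemExtension σ₂) (h42 : Nat.card σ₂.ker = 4) (hsq2 : ∀ z ∈ σ₂.ker, z * z = 1) :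
    Nonempty (Γ₁ ≃* Γ₂) := by
  obtain ⟨ψ₁, hs1, hc1⟩ := exists_surj_Gam Γ₁ σ₁ hσ₁
  obtain ⟨ψ₂, hs2, hc2⟩ := exists_surj_Gam Γ₂ σ₂ hσ₂
  have hk : ψ₁.ker = ψ₂.ker := by
    rw [ker_psi_eq Γ₁ σ₁ hσ₁ h41 hsq1 ψ₁ hs1 hc1, ker_psi_eq Γ₂ σ₂ hσ₂ h42 hsq2 ψ₂ hs2 hc2]
  exact ⟨((QuotientGroup.quotientKerEquivOfSurjective ψ₁ hs1).symm.trans
    (QuotientGroup.quotientMulEquivOfEq hk)).trans
    (QuotientGroup.quotientKerEquivOfSurjective ψ₂ hs2)⟩

/-- a quasisimple group with central quotient `PSL₃(4)` is a stem extension of the concrete `G0` -/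
theorem stem_of_quasisimple {L : Type v} [Group L] (hq : Cfsg.IsQuasisimple L)
    (e : L ⧸ Subgroup.center L ≃* G0) :
    Cfsg.IsStemExtension (e.toMonoidHom.comp (QuotientGroup.mk' (Subgroup.center L))) ∧
      (e.toMonoidHom.comp (QuotientGroup.mk' (Subgroup.center L))).ker = Subgroup.center L := by
  have hk : (e.toMonoidHom.comp (QuotientGroup.mk' (Subgroup.center L))).ker = Subgroup.center L := by
    ext x
    rw [MonoidHom.mem_ker, MonoidHom.comp_apply]
    show e (QuotientGroup.mk' (Subgroup.center L) x) = 1 ↔ _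
    rw [e.map_eq_one_iff, QuotientGroup.mk'_apply, QuotientGroup.eq_one_iff]
  refine ⟨⟨e.surjective.comp (QuotientGroup.mk'_surjective _), ?_, ?_⟩, hk⟩
  · rw [hk]
  · rw [hk]
    have hp : commutator L = ⊤ := hq.1.commutator_eq_top
    rw [hp]
    exact le_top

end Cfsg.Agent.Lib.Helper30.L34
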