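import Cfsg.Agent.Lib.Helper30.L34.Main

/-! # The universal property of the 48-fold cover `Gam` of `PSL₃(4)`

Every finite stem extension `σ : Γ →* G0` (in any universe) is a quotient of `sig : Gam →* G0`.
(The argument is the second half of `Helper2.Sz8STEM.hasMult_of_model`, universe-polymorphic.) -/

set_option autoImplicit false
set_option maxRecDepth 1000000
set_option maxHeartbeats 0

namespace Cfsg.Agent.Lib.Helper30.L34

open Cfsg Cfsg.Agent.Lib.Helper89.CosetCert Cfsg.Agent.Lib.Helper89.SafePres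
open Cfsg.Agent.Lib.Helper89.StemSafe Cfsg.Agent.Lib.Helper89.SafePres2
open Cfsg.Agent.Lib.Helper92.StemE

universe v

/-- `hbound` in any universe -/
theorem hboundU (L : Type v) [Group L] [Finite L] (t : ℕ → L) (ht : ∀ i, t i ^ ord i = 1)
    (hs : ∀ r ∈ srelsAll, ev t r.word = 1) :
    Nat.card (Subgroup.closure {y | ∃ i < 4, y = t i}) ≤ 48 * 20160 := by
  have hs2 : ∀ r ∈ L2.srels, ev t r.word = 1 := fun r hr => hs r (by
    unfold srelsAll; simp only [List.mem_append]; tauto)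
  have hs3 : ∀ r ∈ L3.srels, ev t r.word = 1 := fun r hr => hs r (by
    unfold srelsAll; simp only [List.mem_append]; tauto)
  have hs4 : ∀ r ∈ L4.srels, ev t r.word = 1 := fun r hr => hs r (by
    unfold srelsAll; simp only [List.mem_append]; tauto)
  have hr1 : ∀ r ∈ L1.cert.rels, ev t r = 1 := by
    show ∀ r ∈ L1.rels, ev t r = 1
    rw [L1.rels_eq]
    exact rels_valid t _ _ (fun q hq => by rw [(pw1 q hq).1]; exact ht _)
      (fun _ hr => (L1.mem_srels hr).elim)
  have hr2 : ∀ r ∈ L2.cert.rels, ev t r = 1 := by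
    show ∀ r ∈ L2.rels, ev t r = 1
    rw [L2.rels_eq]
    exact rels_valid t _ _ (fun q hq => by rw [(pw2 q hq).1]; exact ht _) hs2
  have hr3 : ∀ r ∈ L3.cert.rels, ev t r = 1 := by
    show ∀ r ∈ L3.rels, ev t r = 1
    rw [L3.rels_eq]
    exact rels_valid t _ _ (fun q hq => by rw [(pw3 q hq).1]; exact ht _) hs3
  have hr4 : ∀ r ∈ L4.cert.rels, ev t r = 1 := by
    show ∀ r ∈ L4.rels, ev t r = 1
    rw [L4.rels_eq]
    exact rels_valid t _ _ (fun q hq => by rw [(pw4 q hq).1]; exact ht _) hs4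
  have c1 := cert_step t L1.cert L1.cert_ok hr1 1 (closure_empty t)
  have c2 := cert_step t L2.cert L2.cert_ok hr2 _ c1
  have c3 := cert_step t L3.cert L3.cert_ok hr3 _ c2
  have c4 := cert_step t L4.cert L4.cert_ok hr4 _ c3
  exact c4

/-- `hexp` in any universe -/
theorem hexpU (Γ : Type v) [Group Γ] [Finite Γ] (σ : Γ →* G0)
    (hσ : Cfsg.IsStemExtension σ) : ∀ z ∈ σ.ker, z ^ 576 = 1 := by
  intro z hz
  have hc := pow_card_eq_one σ hσ hz
  rw [card_G0] at hc
  have hd : orderOf z ∣ 576 * 35 := by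
    have := orderOf_dvd_of_pow_eq_one hc
    norm_num at this ⊢
    exact this
  have h5 : ¬ 5 ∣ orderOf z :=
    not_dvd_of_cyclic_sylow σ hσ 5 (by norm_num) (g 0) 1 4032
      (by rw [pow_one]; exact orderOf_g0)
      (by rw [card_G0]; norm_num) (by norm_num) hz
  have h7 : ¬ 7 ∣ orderOf z :=
    not_dvd_of_cyclic_sylow σ hσ 7 (by norm_num) x7 1 2880
      (by rw [pow_one]; exact orderOf_x7)
      (by rw [card_G0]; norm_num) (by norm_num) hz
  have hcop : Nat.Coprime (orderOf z) 35 := by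
    have e : (35 : ℕ) = 5 * 7 := by norm_num
    rw [e]
    refine Nat.Coprime.mul_right ?_ ?_
    · exact (Nat.Coprime.symm ((Nat.Prime.coprime_iff_not_dvd (by norm_num)).2 h5))
    · exact (Nat.Coprime.symm ((Nat.Prime.coprime_iff_not_dvd (by norm_num)).2 h7))
  exact orderOf_dvd_iff_pow_eq_one.mp (hcop.dvd_of_dvd_mul_right hd)

theorem card_ker : Nat.card sig.ker = 48 := by
  obtain ⟨e⟩ := Z0_equiv
  rw [← Z0_eq_ker, Nat.card_congr e.toEquiv, card_A]

theorem card_Gam : Nat.card Gam = 48 * 20160 := by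
  have h1 := Subgroup.card_mul_index sig.ker
  rw [Subgroup.index_ker, MonoidHom.range_eq_top.mpr sig_surjective, Subgroup.card_top,
    card_G0, card_ker] at h1
  exact h1.symm

/-- **The universal property of `Gam`.** -/
theorem exists_surj_Gam (Γ : Type v) [Group Γ] [Finite Γ] (σ : Γ →* G0)
    (hσ : Cfsg.IsStemExtension σ) :
    ∃ ψ : Gam →* Γ, Function.Surjective ψ ∧ ∀ y, σ (ψ y) = sig y := by
  have hE := hexpU Γ σ hσ
  obtain ⟨hsurj, hcenΓ, hcomm⟩ := hσ
  have hex : ∀ i, ∃ γ : Γ, σ γ = g i ∧ γ ^ ord i = 1 := fun i =>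
    good_exists_E σ 576 (by norm_num) hsurj hcenΓ hE (g i) (ord i) (g_pow i) (ord_coprime i)
  choose t hσt ht using hex
  have hfun : (fun i => σ (t i)) = g := funext hσt
  have hrelΓ : ∀ r ∈ srelsAll, ev t r.word = 1 := by
    intro r hr
    apply lift_srel_E σ 576 hcenΓ hE t ord ht ord_coprime r
    rw [hfun]
    exact hvalid r hr
  set T : Subgroup Γ := Subgroup.closure {y | ∃ i < 4, y = t i} with hT
  have hmap : T.map σ = ⊤ := by
    rw [hT, map_closure_eq σ 4 t g hσt, closure_g]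
  have hKT : σ.ker ≤ T := le_trans hcomm (commutator_le_of_map_eq_top σ hcenΓ T hmap)
  have hTtop : T = ⊤ := by
    rw [eq_top_iff]
    intro γ _
    have : σ γ ∈ T.map σ := by rw [hmap]; trivial
    obtain ⟨l, hl, hlγ⟩ := this
    have hmem : l⁻¹ * γ ∈ σ.ker := by
      rw [MonoidHom.mem_ker, map_mul, map_inv, hlγ, inv_mul_cancel]
    have : γ = l * (l⁻¹ * γ) := by group
    rw [this]
    exact T.mul_mem hl (hKT hmem)
  -- the diagonal subgroup
  let d : ℕ → Γ × Gam := fun i => (t i, tau' i)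
  set D : Subgroup (Γ × Gam) := Subgroup.closure {y | ∃ i < 4, y = d i} with hD
  have hDcard : Nat.card D ≤ 48 * 20160 := by
    apply hboundU (Γ × Gam) d
    · intro i
      show (t i, tau' i) ^ ord i = 1
      rw [Prod.pow_mk, ht i, tau'_pow i]
      rfl
    · intro r hr
      show ev (fun i => (t i, tau' i)) r.word = 1
      rw [ev_prod, hrelΓ r hr, tau'_rel r hr]
      rfl
  have hD1 : D.map (MonoidHom.fst Γ Gam) = ⊤ := by
    rw [hD, map_closure_eq (MonoidHom.fst Γ Gam) 4 d t (fun i => rfl), ← hT, hTtop]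
  have hD2 : D.map (MonoidHom.snd Γ Gam) = ⊤ := by
    rw [hD, map_closure_eq (MonoidHom.snd Γ Gam) 4 d tau' (fun i => rfl), tau'_gen]
  have hcompat : ∀ x ∈ D, σ x.1 = sig x.2 := by
    intro x hx
    induction hx using Subgroup.closure_induction with
    | mem y hy =>
      obtain ⟨i, hi, rfl⟩ := hy
      show σ (t i) = sig (tau' i)
      rw [hσt, sig_tau']
    | one => simp
    | mul a b _ _ ha hb => simp [ha, hb]
    | inv a _ ha => simp [ha]
  -- the second projection is bijective on `D`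
  let p2 : D →* Gam := (MonoidHom.snd Γ Gam).comp D.subtype
  have hp2s : Function.Surjective p2 := by
    intro y
    have : y ∈ D.map (MonoidHom.snd Γ Gam) := by rw [hD2]; trivial
    obtain ⟨x, hx, rfl⟩ := this
    exact ⟨⟨x, hx⟩, rfl⟩
  have hp2b : Function.Bijective p2 := by
    have hge : Nat.card Gam ≤ Nat.card D := Nat.card_le_card_of_surjective p2 hp2s
    have hle : Nat.card D ≤ Nat.card Gam := by rw [card_Gam]; exact hDcard
    exact (Nat.bijective_iff_surjective_and_card p2).2 ⟨hp2s, le_antisymm hle hge⟩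
  let p2e : D ≃* Gam := MulEquiv.ofBijective p2 hp2b
  have hp2e : ∀ x : D, p2e x = x.1.2 := fun x => rfl
  let ψ : Gam →* Γ := ((MonoidHom.fst Γ Gam).comp D.subtype).comp p2e.symm.toMonoidHom
  have hψ : ∀ x : D, ψ x.1.2 = x.1.1 := by
    intro x
    show ((p2e.symm x.1.2 : D) : Γ × Gam).1 = x.1.1
    rw [← hp2e x, MulEquiv.symm_apply_apply]
  have hσψ : ∀ y : Gam, σ (ψ y) = sig y := by
    intro y
    obtain ⟨x, rfl⟩ := p2e.surjective y
    rw [hp2e, hψ]
    exact hcompat x.1 x.2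
  refine ⟨ψ, ?_, hσψ⟩
  intro a
  have : a ∈ D.map (MonoidHom.fst Γ Gam) := by rw [hD1]; trivial
  obtain ⟨x, hx, hxa⟩ := this
  have hxa' : x.1 = a := hxa
  refine ⟨x.2, ?_⟩
  rw [← hxa']
  exact hψ ⟨x, hx⟩

end Cfsg.Agent.Lib.Helper30.L34
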